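import Groth.Agent.ExcSmooth.Algebra
import Groth.Agent.BlowUpLib.Glue
import Groth.Prelude.Def_Mor2
import Groth.Agent.S5802
import Mathlib

/-! The exceptional divisor of the blow-up along a regular immersion is smooth over the centre. -/

set_option autoImplicit false
noncomputable section

namespace Groth.Agent.ExcSmooth

open CategoryTheory CategoryTheory.Limits AlgebraicGeometry Groth.Agent.BlowUpLib

universe u

variable {A B : Type u} [CommRing A] [CommRing B]

theorem centre_eq_ker (K : Ideal B) :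
    centre K = (Spec.map (CommRingCat.ofHom (Ideal.Quotient.mk K))).ker := by
  refine Scheme.IdealSheafData.ext_of_isAffine ?_
  rw [centre_top, Scheme.Hom.ker_apply]
  ext x
  obtain ⟨y, rfl⟩ : ∃ y, (Scheme.ΓSpecIso (CommRingCat.of B)).inv.hom y = x :=
    (ConcreteCategory.bijective_of_isIso (Scheme.ΓSpecIso (CommRingCat.of B)).inv).2 x
  rw [Ideal.mem_map_iff_of_surjective _
    (ConcreteCategory.bijective_of_isIso (Scheme.ΓSpecIso (CommRingCat.of B)).inv).2, RingHom.mem_ker]
  have hn : (Spec.map (CommRingCat.ofHom (Ideal.Quotient.mk K))).appTop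
      ((Scheme.ΓSpecIso (CommRingCat.of B)).inv y) =
      (Scheme.ΓSpecIso (CommRingCat.of (B ⧸ K))).inv (Ideal.Quotient.mk K y) :=
    (ConcreteCategory.congr_hom (Scheme.ΓSpecIso_inv_naturality (CommRingCat.ofHom (Ideal.Quotient.mk K))) y).symm
  erw [hn]
  constructor
  · rintro ⟨z, hz, hzy⟩
    obtain rfl := (ConcreteCategory.bijective_of_isIso (Scheme.ΓSpecIso (CommRingCat.of B)).inv).1 hzy
    rw [Ideal.Quotient.eq_zero_iff_mem.mpr hz, map_zero]
    rfl
  · intro h
    refine ⟨y, Ideal.Quotient.eq_zero_iff_mem.mp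
      ((ConcreteCategory.bijective_of_isIso (Scheme.ΓSpecIso (CommRingCat.of (B ⧸ K))).inv).1 ?_), rfl⟩
    rw [map_zero]
    exact h

theorem comap_centre (I : Ideal A) (φ : A →+* B) :
    (centre I).comap (Spec.map (CommRingCat.ofHom φ)) = centre (I.map φ) := by
  refine Scheme.IdealSheafData.ext_of_isAffine ?_
  rw [ideal_comap_centre, centre_top, Ideal.map_map]
  congr 1
  ext r
  have hn := ConcreteCategory.congr_hom (Scheme.ΓSpecIso_inv_naturality (CommRingCat.ofHom φ)) r
  refine Eq.trans ?_ hn.symm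
  simp only [strHom, Scheme.Hom.appLE]
  erw [(Spec (CommRingCat.of B)).presheaf.map_id]
  rfl

theorem irrelevant_le_span (I : Ideal A) {c : ℕ} (a : Fin c → A) (hI : Ideal.span (Set.range a) = I)
    (hmem : ∀ i, a i ∈ I) :
    (HomogeneousIdeal.irrelevant (deg I)).toIdeal ≤
      Ideal.span (Set.range fun i => gen I ⟨a i, hmem i⟩) := by
  refine (irrelevant_le_span_gen I).trans (Ideal.span_le.mpr ?_)
  rintro _ ⟨⟨x, hx⟩, rfl⟩
  rw [← hI] at hx
  obtain ⟨r, rfl⟩ := Ideal.mem_span_range_iff_exists_fun.mp hx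
  refine Ideal.mem_span_range_iff_exists_fun.mpr ⟨fun i => algebraMap A _ (r i), Subtype.ext ?_⟩
  show (((∑ i, algebraMap A (reesAlgebra I) (r i) * gen I ⟨a i, hmem i⟩ : reesAlgebra I)) : Polynomial A) =
    Polynomial.monomial 1 (∑ i, r i * a i)
  rw [AddSubmonoidClass.coe_finsetSum, map_sum]
  refine Finset.sum_congr rfl fun i _ => ?_
  show algebraMap A (Polynomial A) (r i) * Polynomial.monomial 1 (a i) = _
  rw [Polynomial.algebraMap_eq, Polynomial.C_mul_monomial]

variable {X X' Y : Scheme.{u}}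

theorem smooth_exceptional (i : Y ⟶ X) (hi : Mor2.IsRegularClosedImmersion i)
    (b : X' ⟶ X) (hb : BlowUp.IsBlowUp b i.ker) (g : (BlowUp.exceptional b i.ker).subscheme ⟶ Y)
    (hg : g ≫ i = (BlowUp.exceptional b i.ker).subschemeι ≫ b) : Smooth g := by
  haveI := hi.1
  let E := BlowUp.exceptional b i.ker
  have key : ∀ z : E.subscheme, ∃ (R : CommRingCat.{u}) (m : Spec R ⟶ E.subscheme),
      IsOpenImmersion m ∧ z ∈ Set.range m ∧ Smooth (m ≫ g) := by
    intro z
    obtain ⟨U, hU, hy, rs, hreg, hker⟩ := hi.2 (g z)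
    let A := Γ(X, U)
    let I : Ideal A := i.ker.ideal ⟨U, hU⟩
    let a : Fin rs.length → A := rs.get
    have hI : Ideal.span (Set.range a) = I := by
      rw [show I = Ideal.ofList rs from hker, Ideal.ofList, Set.range_list_get]
    have hmem : ∀ j, a j ∈ I := fun j => hI ▸ Ideal.subset_span ⟨j, rfl⟩
    have hq : CAlgX.IsQuasiRegular a :=
      Groth.Agent.S5802.result A rs.length a (by
        rw [show List.ofFn a = rs from List.ofFn_get rs]
        exact hreg.toIsWeaklyRegular)
    -- the blow-up over `U`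
    have H : IsPullback (pullback.snd b hU.fromSpec) (pullback.fst b hU.fromSpec) hU.fromSpec b :=
      (IsPullback.of_hasPullback b hU.fromSpec).flip
    have hP : BlowUp.IsBlowUp (pullback.snd b hU.fromSpec) (centre I) := by
      have := isBlowUp_of_isPullback H hb
      rwa [comap_fromSpec i.ker ⟨U, hU⟩] at this
    obtain ⟨σ, hσ⟩ := exists_iso (isBlowUp_local I) hP
    have hz : E.subschemeι z ∈ Set.range (pullback.fst b hU.fromSpec) := by
      rw [Scheme.Pullback.range_fst]
      show b (E.subschemeι z) ∈ Set.range hU.fromSpec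
      rw [hU.range_fromSpec, ← Scheme.Hom.comp_apply, ← hg, Scheme.Hom.comp_apply]
      exact hy
    obtain ⟨w, hw⟩ := hz
    obtain ⟨j, hj⟩ : ∃ j : Fin rs.length, σ.inv w ∈ (chart I ⟨a j, hmem j⟩).opensRange := by
      obtain ⟨j, hj⟩ := TopologicalSpace.Opens.mem_iSup.mp
        ((Proj.iSup_basicOpen_eq_top (deg I) (fun j => gen I ⟨a j, hmem j⟩)
          (irrelevant_le_span I a hI hmem)).ge (Set.mem_univ (σ.inv w)))
      exact ⟨j, by rwa [opensRange_chart]⟩
    obtain ⟨v, hv⟩ := hj
    let B := BlowUp.affineAlgebra A I (a j)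
    let K : Ideal B := I.map (algebraMap A B)
    let c : Spec (CommRingCat.of B) ⟶ X' := chart I ⟨a j, hmem j⟩ ≫ σ.hom ≫ pullback.fst b hU.fromSpec
    haveI : IsOpenImmersion c := inferInstance
    have hc : c ≫ b = Spec.map (CommRingCat.ofHom (algebraMap A B)) ≫ hU.fromSpec := by
      simp only [c, Category.assoc]
      rw [pullback.condition, reassoc_of% hσ, chart_toBase_assoc]
    let ιK : Spec (CommRingCat.of (B ⧸ K)) ⟶ Spec (CommRingCat.of B) :=
      Spec.map (CommRingCat.ofHom (Ideal.Quotient.mk K))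
    haveI : IsClosedImmersion ιK := IsClosedImmersion.spec_of_surjective _ Ideal.Quotient.mk_surjective
    have hEc : E.comap c = ιK.ker := by
      show (i.ker.comap b).comap c = _
      rw [← Scheme.IdealSheafData.comap_comp, hc, Scheme.IdealSheafData.comap_comp,
        comap_fromSpec i.ker ⟨U, hU⟩, comap_centre, centre_eq_ker]
    let ιI : Spec (CommRingCat.of (A ⧸ I)) ⟶ Spec (CommRingCat.of A) :=
      Spec.map (CommRingCat.ofHom (Ideal.Quotient.mk I))
    haveI : IsClosedImmersion ιI := IsClosedImmersion.spec_of_surjective _ Ideal.Quotient.mk_surjective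
    have hIc : i.ker.comap hU.fromSpec = ιI.ker := by
      rw [comap_fromSpec i.ker ⟨U, hU⟩, centre_eq_ker]
    have hleE : E.subschemeι.ker ≤ (ιK ≫ c).ker := by
      rw [Scheme.IdealSheafData.ker_subschemeι, ← Scheme.IdealSheafData.map_ker]
      exact Scheme.IdealSheafData.le_map_iff_comap_le.mpr hEc.le
    have hleY : i.ker ≤ (ιI ≫ hU.fromSpec).ker := by
      rw [← Scheme.IdealSheafData.map_ker]
      exact Scheme.IdealSheafData.le_map_iff_comap_le.mpr hIc.le
    let m := IsClosedImmersion.lift E.subschemeι (ιK ≫ c) hleE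
    let e := IsClosedImmersion.lift i (ιI ≫ hU.fromSpec) hleY
    have hm : m ≫ E.subschemeι = ιK ≫ c := IsClosedImmersion.lift_fac _ _ _
    have he : e ≫ i = ιI ≫ hU.fromSpec := IsClosedImmersion.lift_fac _ _ _
    have sqE : IsPullback ιK m c E.subschemeι := isPullback_of_isClosedImmersion ιK _ m c hm.symm
      (by rw [Scheme.IdealSheafData.ker_subschemeι, hEc])
    have sqY : IsPullback ιI e hU.fromSpec i := isPullback_of_isClosedImmersion ιI _ e _ he.symm hIc
    haveI : IsOpenImmersion m := MorphismProperty.of_isPullback (P := @IsOpenImmersion) sqE ‹_›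
    haveI : IsOpenImmersion e :=
      MorphismProperty.of_isPullback (P := @IsOpenImmersion) sqY inferInstance
    refine ⟨_, m, inferInstance, ?_, ?_⟩
    · have hvz : c v = E.subschemeι z := by
        show (chart I ⟨a j, hmem j⟩ ≫ σ.hom ≫ pullback.fst b hU.fromSpec) v = _
        rw [Scheme.Hom.comp_apply, Scheme.Hom.comp_apply, hv, ← Scheme.Hom.comp_apply σ.inv σ.hom,
          Iso.inv_hom_id, ← hw]
        rfl
      obtain ⟨q, -, hq2⟩ := Scheme.Pullback.exists_preimage_pullback v z hvz
      refine ⟨sqE.isoPullback.inv q, ?_⟩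
      rw [← Scheme.Hom.comp_apply, sqE.isoPullback_inv_snd]
      exact hq2
    · let φe : CommRingCat.of (A ⧸ I) ⟶ CommRingCat.of (B ⧸ K) :=
        CommRingCat.ofHom (R := A ⧸ I) (S := B ⧸ K) (excMap I (a j))
      have hcomp : m ≫ g = Spec.map φe ≫ e := by
        rw [← cancel_mono i, Category.assoc, hg, reassoc_of% hm, hc, Category.assoc, he,
          ← Spec.map_comp_assoc, ← Spec.map_comp_assoc]
        rfl
      have hsm : RingHom.Smooth (R := A ⧸ I) (S := B ⧸ K) (excMap I (a j)) := by
        clear_value a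
        generalize rs.length = N at a j hq hI hmem ⊢
        obtain ⟨n, rfl⟩ : ∃ n, N = n + 1 := Nat.exists_eq_succ_of_ne_zero j.pos.ne'
        exact smooth_chart a hq I hI j
      haveI : Smooth (Spec.map φe) := (HasRingHomProperty.Spec_iff (P := @Smooth)).mpr hsm
      rw [hcomp]
      infer_instance
  choose R m hm hz hs using key
  let 𝒰 : E.subscheme.OpenCover := Scheme.openCoverOfIsOpenCover _ (fun z => (m z).opensRange)
    (TopologicalSpace.Opens.ext (Set.eq_univ_of_forall fun z =>
      TopologicalSpace.Opens.mem_iSup.mpr ⟨z, hz z⟩))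
  refine (IsZariskiLocalAtSource.iff_of_openCover (P := @Smooth) 𝒰).mpr fun z => ?_
  show Smooth ((m z).opensRange.ι ≫ g)
  rw [← Scheme.Hom.isoOpensRange_inv_comp (m z), Category.assoc]
  exact MorphismProperty.RespectsIso.precomp (P := @Smooth) _ _ (hs z)

end Groth.Agent.ExcSmooth
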