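import Groth.Prelude.Def_CAlgX
import Groth.Agent.BlowUpLib.Local
import Mathlib

/-! The exceptional divisor in a chart of the blow-up of a quasi-regular ideal. -/

set_option autoImplicit false
noncomputable section

namespace Groth.Agent.ExcSmooth

open MvPolynomial

universe u

variable {A : Type u} [CommRing A] {n : ℕ}

theorem coeff_mem_of_aeval_eq_zero (a : Fin (n + 1) → A) (hq : CAlgX.IsQuasiRegular a)
    (F : MvPolynomial (Fin n) A)
    (hF : aeval (fun i : Fin n => IsLocalization.mk' (Localization.Away (a 0)) (a i.succ)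
      (⟨a 0, Submonoid.mem_powers (a 0)⟩ : Submonoid.powers (a 0))) F = 0) (e : Fin n →₀ ℕ) :
    F.coeff e ∈ Ideal.span (Set.range a) := by
  classical
  set L := Localization.Away (a 0)
  set t : Fin n → L := fun i => IsLocalization.mk' L (a i.succ)
    (⟨a 0, Submonoid.mem_powers (a 0)⟩ : Submonoid.powers (a 0))
  have ht : ∀ i, algebraMap A L (a 0) * t i = algebraMap A L (a i.succ) := fun i =>
    IsLocalization.mk'_spec' L (a i.succ) _
  let d := F.totalDegree
  let G : MvPolynomial (Fin (n + 1)) A :=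
    ∑ e ∈ F.support, monomial (Finsupp.cons (d - e.degree) e) (F.coeff e)
  have hdeg : ∀ e ∈ F.support, (Finsupp.cons (d - e.degree) e).degree = d := by
    intro e he
    have hle : e.degree ≤ d := le_totalDegree he
    rw [Finsupp.degree_eq_sum] at hle
    rw [Finsupp.degree_eq_sum, Finsupp.degree_eq_sum, Fin.sum_univ_succ]
    simp only [Finsupp.cons_zero, Finsupp.cons_succ]
    omega
  have hG : G.IsHomogeneous d :=
    IsHomogeneous.sum _ _ _ fun e he => isHomogeneous_monomial _ (hdeg e he)
  have h1 : algebraMap A L (eval a G) = algebraMap A L (a 0) ^ d * aeval t F := by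
    conv_rhs => rw [F.as_sum, map_sum, Finset.mul_sum]
    rw [map_sum, map_sum]
    refine Finset.sum_congr rfl fun e he => ?_
    rw [eval_monomial, aeval_monomial, Finsupp.prod_fintype _ _ (by simp), Fin.prod_univ_succ,
      Finsupp.prod_fintype _ _ (by simp)]
    simp only [Finsupp.cons_zero, Finsupp.cons_succ, map_mul, map_pow, map_prod, ← ht, mul_pow,
      Finset.prod_mul_distrib, Finset.prod_pow_eq_pow_sum]
    have hle : e.degree ≤ d := le_totalDegree he
    rw [Finsupp.degree_eq_sum] at hle ⊢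
    rw [show algebraMap A L (a 0) ^ d =
      algebraMap A L (a 0) ^ (d - ∑ i, e i) * algebraMap A L (a 0) ^ (∑ i, e i) by
        rw [← pow_add, Nat.sub_add_cancel hle]]
    ring
  rw [hF, mul_zero] at h1
  obtain ⟨⟨_, N, rfl⟩, hN⟩ := (IsLocalization.map_eq_zero_iff (Submonoid.powers (a 0)) L _).mp h1
  have hH := (isHomogeneous_monomial (1 : A) (Finsupp.degree_single (0 : Fin (n + 1)) N)).mul hG
  have hval : eval a (monomial (Finsupp.single (0 : Fin (n + 1)) N) (1 : A) * G) = 0 := by
    rw [map_mul, eval_monomial, Finsupp.prod_fintype _ _ (by simp), Fintype.prod_eq_single (0 : Fin (n + 1))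
      (fun i hi => by rw [Finsupp.single_apply, if_neg (Ne.symm hi), pow_zero]), Finsupp.single_eq_same, one_mul]
    exact hN
  have hall := hq _ _ hH (by rw [hval]; exact zero_mem _)
  by_cases he : e ∈ F.support
  · have h2 := hall (Finsupp.single 0 N + Finsupp.cons (d - e.degree) e)
    rw [coeff_monomial_mul, one_mul] at h2
    convert h2 using 1
    rw [coeff_sum, Finset.sum_eq_single e]
    · rw [coeff_monomial, if_pos rfl]
    · intro b _ hb
      rw [coeff_monomial, if_neg]
      intro hcons
      apply hb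
      have := congrArg Finsupp.tail hcons
      rwa [Finsupp.tail_cons, Finsupp.tail_cons] at this
    · exact fun h => absurd he h
  · rw [notMem_support_iff.mp he]
    exact zero_mem _

/-- The map to a chart of the exceptional divisor. -/
def excMap (I : Ideal A) (x : A) : A ⧸ I →+* BlowUp.affineAlgebra A I x ⧸
    I.map (algebraMap A (BlowUp.affineAlgebra A I x)) :=
  Ideal.quotientMap _ (algebraMap A (BlowUp.affineAlgebra A I x)) Ideal.le_comap_map

/-- The chart of `a 0` maps onto a polynomial algebra over `A / I` modulo `I`. -/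
theorem smooth_chart_zero (a : Fin (n + 1) → A) (hq : CAlgX.IsQuasiRegular a) (I : Ideal A)
    (hI : Ideal.span (Set.range a) = I) :
    RingHom.Smooth (R := A ⧸ I) (S := BlowUp.affineAlgebra A I (a 0) ⧸
      I.map (algebraMap A (BlowUp.affineAlgebra A I (a 0)))) (excMap I (a 0)) := by
  classical
  set L := Localization.Away (a 0)
  set B := BlowUp.affineAlgebra A I (a 0)
  have hmem : ∀ i, a i ∈ I := fun i => hI ▸ Ideal.subset_span ⟨i, rfl⟩
  let t : Fin n → B := fun i => BlowUpLib.frac I ⟨a i.succ, hmem _⟩ ⟨a 0, hmem 0⟩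
  let ψ : MvPolynomial (Fin n) A →ₐ[A] B := aeval t
  have hval : ∀ F, (ψ F : L) = aeval (fun i : Fin n => IsLocalization.mk' L (a i.succ)
      (⟨a 0, Submonoid.mem_powers (a 0)⟩ : Submonoid.powers (a 0))) F := fun F =>
    AlgHom.congr_fun (MvPolynomial.algHom_ext (fun i => by
      show ((ψ (X i) : B) : L) = _
      rw [aeval_X, aeval_X]
      rfl) : B.val.comp ψ = aeval _) F
  have hψ : Function.Surjective ψ := by
    have key : B ≤ ψ.range.map B.val := by
      refine Algebra.adjoin_le ?_
      rintro q ⟨x, hx, rfl⟩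
      rw [← hI] at hx
      obtain ⟨c, rfl⟩ := Ideal.mem_span_range_iff_exists_fun.mp hx
      have hsum : ψ (MvPolynomial.C (c 0) + ∑ i : Fin n, MvPolynomial.C (c i.succ) * X i) =
          algebraMap A B (c 0) + ∑ i : Fin n, algebraMap A B (c i.succ) * t i := by
        simp only [ψ, map_add, map_sum, map_mul, aeval_C, aeval_X]
      refine ⟨ψ (MvPolynomial.C (c 0) + ∑ i : Fin n, MvPolynomial.C (c i.succ) * X i),
        ⟨_, rfl⟩, ?_⟩
      rw [hsum, map_add, map_sum, eq_comm, IsLocalization.mk'_eq_iff_eq_mul]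
      simp only [map_mul, AlgHom.commutes]
      rw [Fin.sum_univ_succ, map_add, map_sum, map_mul, add_mul, Finset.sum_mul]
      refine congrArg _ (Finset.sum_congr rfl fun i _ => ?_)
      rw [map_mul, mul_assoc]
      congr 1
      exact (IsLocalization.mk'_spec L (a i.succ) _).symm
    intro z
    obtain ⟨_, ⟨F, rfl⟩, hF⟩ := key z.2
    exact ⟨F, Subtype.ext hF⟩
  have hIB : I.map (algebraMap A B) = Ideal.span {algebraMap A B (a 0)} := by
    refine le_antisymm ?_ ((Ideal.span_singleton_le_iff_mem _).mpr (Ideal.mem_map_of_mem _ (hmem 0)))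
    rw [Ideal.map_le_iff_le_comap]
    intro x hx
    exact Ideal.mem_span_singleton'.mpr ⟨_, BlowUpLib.frac_mul I ⟨x, hx⟩ ⟨a 0, hmem 0⟩⟩
  let J : Ideal (MvPolynomial (Fin n) A) := I.map MvPolynomial.C
  let χ : MvPolynomial (Fin n) A →+* B ⧸ I.map (algebraMap A B) :=
    (Ideal.Quotient.mk _).comp ψ.toRingHom
  have hχ : RingHom.ker χ = J := by
    refine le_antisymm (fun F hF => ?_) ?_
    · have hF' : ψ F ∈ I.map (algebraMap A B) := Ideal.Quotient.eq_zero_iff_mem.mp hF
      rw [hIB, Ideal.mem_span_singleton'] at hF'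
      obtain ⟨y, hy⟩ := hF'
      obtain ⟨H, rfl⟩ := hψ y
      have h0 : ψ (F - MvPolynomial.C (a 0) * H) = 0 := by
        rw [map_sub, map_mul, show ψ (MvPolynomial.C (a 0)) = algebraMap A B (a 0) from ψ.commutes _,
          ← hy, mul_comm, sub_self]
      have : F - MvPolynomial.C (a 0) * H ∈ J := mem_map_C_iff.mpr fun e => by
        rw [← hI]
        refine coeff_mem_of_aeval_eq_zero a hq _ ?_ e
        rw [← hval, h0]
        rfl
      simpa using add_mem this (Ideal.mul_mem_right H J (Ideal.mem_map_of_mem _ (hmem 0)))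
    · rw [Ideal.map_le_iff_le_comap]
      intro x hx
      show Ideal.Quotient.mk _ (ψ (MvPolynomial.C x)) = 0
      rw [show ψ (MvPolynomial.C x) = algebraMap A B x from ψ.commutes _, Ideal.Quotient.eq_zero_iff_mem]
      exact Ideal.mem_map_of_mem _ hx
  let e : MvPolynomial (Fin n) (A ⧸ I) ≃+* B ⧸ I.map (algebraMap A B) :=
    (MvPolynomial.quotientEquivQuotientMvPolynomial I).toRingEquiv.trans
      ((Ideal.quotEquivOfEq hχ.symm).trans
        (RingHom.quotientKerEquivOfSurjective (Ideal.Quotient.mk_surjective.comp hψ)))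
  have he : excMap I (a 0) =
      e.toRingHom.comp (algebraMap (A ⧸ I) (MvPolynomial (Fin n) (A ⧸ I))) := by
    refine Ideal.Quotient.ringHom_ext (RingHom.ext fun x => ?_)
    have h1 : MvPolynomial.quotientEquivQuotientMvPolynomial (σ := Fin n) I
        (MvPolynomial.C (Ideal.Quotient.mk I x)) = Ideal.Quotient.mk J (MvPolynomial.C x) :=
      eval₂Hom_C _ _ (Ideal.Quotient.mk I x)
    show excMap I (a 0) (Ideal.Quotient.mk I x) = e (MvPolynomial.C (Ideal.Quotient.mk I x))
    rw [excMap, Ideal.quotientMap_mk]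
    show _ = (RingHom.quotientKerEquivOfSurjective (f := χ) (Ideal.Quotient.mk_surjective.comp hψ)) (Ideal.quotEquivOfEq _ (MvPolynomial.quotientEquivQuotientMvPolynomial I _))
    rw [h1, Ideal.quotEquivOfEq_mk, RingHom.quotientKerEquivOfSurjective_apply_mk]
    exact congrArg (Ideal.Quotient.mk _) (ψ.commutes x).symm
  rw [he]
  obtain ⟨hiso, -⟩ := RingHom.Smooth.respectsIso.{u}
  exact @hiso (A ⧸ I) (MvPolynomial (Fin n) (A ⧸ I)) (B ⧸ I.map (algebraMap A B)) _ _ _ _ e
    (RingHom.smooth_algebraMap.mpr (⟨inferInstance, inferInstance⟩ : Algebra.Smooth (A ⧸ I) (MvPolynomial (Fin n) (A ⧸ I))))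

theorem isQuasiRegular_perm (a : Fin (n + 1) → A) (hq : CAlgX.IsQuasiRegular a)
    (σ : Equiv.Perm (Fin (n + 1))) : CAlgX.IsQuasiRegular (a ∘ σ) := by
  intro d P hP h e
  rw [σ.surjective.range_comp] at h ⊢
  have h' := hq d (rename σ P) hP.rename_isHomogeneous (by rwa [eval_rename]) (Finsupp.mapDomain σ e)
  rwa [coeff_rename_mapDomain _ σ.injective] at h'

theorem smooth_chart (a : Fin (n + 1) → A) (hq : CAlgX.IsQuasiRegular a) (I : Ideal A)
    (hI : Ideal.span (Set.range a) = I) (j : Fin (n + 1)) :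
    RingHom.Smooth (R := A ⧸ I) (S := BlowUp.affineAlgebra A I (a j) ⧸
      I.map (algebraMap A (BlowUp.affineAlgebra A I (a j)))) (excMap I (a j)) := by
  have h := smooth_chart_zero (a ∘ Equiv.swap 0 j) (isQuasiRegular_perm a hq _) I
    (by rw [(Equiv.swap 0 j).surjective.range_comp, hI])
  rw [Function.comp_apply, Equiv.swap_apply_left] at h
  exact h

end Groth.Agent.ExcSmooth
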